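import Mathlib
import Cfsg.Agent.Helper9.OutG.Spec

set_option autoImplicit false
set_option maxRecDepth 100000

/-! Data of the certificates for the classes of cyclic subgroups of the group of the three tables on 24 points (the Mathieu group `M₂₄`, points `0, …, 22, ∞ = 23`, letters `x ↦ x + 1`, its inverse, `x ↦ -1/x`, the cube twist and its inverse). -/

noncomputable section

namespace Cfsg.Agent.Helper9.M24C

open Cfsg.Agent.Helper9.OutG

/-- the tree of the packed tables. -/
def dTree : NTree :=
  (NTree.node (NTree.node (NTree.node (NTree.node (NTree.node (NTree.node (NTree.node (NTree.node (NTree.leaf 0xb82d5a4e5183dcd62d4941cc520c41) (NTree.leaf 0x50402b38cba0eb162137941f369ca4)) (NTree.leaf 0x622902364a7b9375d63639462080d3)) (NTree.node (NTree.node (NTree.leaf 0x3a5b48488f42ab15ded37198500c41) (NTree.leaf 0x6d24a60a137daab41cc105dc989483)) (NTree.leaf 0x70a6f804a9bd2ad52d841c8068a0f6))) (NTree.node (NTree.node (NTree.node (NTree.leaf 0xaa66fba28e8b60ab116539a4c18820) (NTree.leaf 0x744309214239aada0c044de765b1e5))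 (NTree.leaf 0x535143c26c926eb73ec52186208235)) (NTree.node (NTree.node (NTree.leaf 0x2c675a35d07d903ba9323996208184) (NTree.leaf 0xc922019477d48389570721aca5e76)) (NTree.leaf 0x45a2b9b8b03324aadced7906208289)))) (NTree.node (NTree.node (NTree.node (NTree.node (NTree.leaf 0x689848dab3325cfa48e81c2ea2ac20) (NTree.leaf 0x34e113a64a65e8bb22a06b9e520c41)) (NTree.leaf 0xa3ad77aab244c2b644d0009a749483)) (NTree.node (NTree.node (NTree.leaf 0x8324d755172ce963a551591e608062) (NTree.leaf 0x3ac68ac6ed7b0121068522a76341c9)) (NTree.leaf 0x13c095b43319d148399255e35b18a4))) (NTree.node (NTree.node (NTree.node (NTree.leaf 0xb34b1439309aee79328f554c418820) (NTree.leaf 0xbc0a150c4f93809ab08b41a3469e76)) (NTree.leaf 0x749afa9513bd18952e07b448310406)) (NTree.node (NTree.leaf 0x419345bead9daec89e4e240a31040a) (NTree.leaf 0x958719a83015d882b4ce2028959eaf))))) (NTree.node (NTree.node (NTree.node (NTree.node (NTree.node (NTree.leaf 0xbccb5585c87da098d1ac508f2190c0) (NTree.leaf 0xb8c44705860168b82928b46b27cda7)) (NTree.leaf 0xa2a57abe13b44cb620ee6812520c41))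 (NTree.node (NTree.node (NTree.leaf 0x5ba4d7d12885aa4bb233514c710403) (NTree.leaf 0x5b435512d47dd0704a63130d072625)) (NTree.leaf 0x46e7441ed0d26e9314b4d6c629062))) (NTree.node (NTree.node (NTree.node (NTree.leaf 0x8bcd6925d5a5d674326d540a418820) (NTree.leaf 0x32468a8404a5d519144f839a79d96c)) (NTree.leaf 0x7dcb4230eb8594e4c9a3118208d668)) (NTree.node (NTree.leaf 0x5caf361d0e4b614abd46b442029062) (NTree.leaf 0x6d8b59b070229d78a1f230820a2567)))) (NTree.node (NTree.node (NTree.node (NTree.node (NTree.leaf 0x6d9c8550b08b09519d329adf730820) (NTree.leaf 0xbb509a42a0b3a53385428996c79483)) (NTree.leaf 0xa4117539f68c86b64c351100669d25)) (NTree.node (NTree.node (NTree.leaf 0xba1cf335758512c92a253da6208083) (NTree.leaf 0x91ca04398b7a84120da98d6979d8d0)) (NTree.leaf 0x2044a94c682a5676d1d0601f78d6c6))) (NTree.node (NTree.node (NTree.node (NTree.leaf 0x4a2d75c2517cdac72a95198a720041) (NTree.leaf 0xa4cecb81267c14daadd245a2520c41)) (NTree.leaf 0x7912e60ecda5e1352eb229c4101a28)) (NTree.node (NTree.leaf 0xb35f4aae488c1cc48e6615ca1028e4)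 (NTree.leaf 0x43a8095971a85f035d2a9b1a729062)))))) (NTree.node (NTree.node (NTree.node (NTree.node (NTree.node (NTree.node (NTree.leaf 0x5883388a1c8f5140b46cd317aed7) (NTree.leaf 0x40823a0230712cc5dd2aa9a4f9b4e5)) (NTree.leaf 0xb324d1aa097baa83c6975904101a65)) (NTree.node (NTree.node (NTree.leaf 0x75ab47c8a89dda459d3051a2c08062) (NTree.leaf 0x5300b68cd77ccf5922c20d20e4c4a4)) (NTree.leaf 0x7d630552e70492b7226c6d8c520c41))) (NTree.node (NTree.node (NTree.node (NTree.leaf 0x2cec6aaef26b927831f45222418820) (NTree.leaf 0xbc84a481036ba1489025a98f3b2d8f)) (NTree.leaf 0x730f42b517b496a7a60419841046b3)) (NTree.node (NTree.leaf 0x51930744f3ab28d7aef64480520c41) (NTree.leaf 0x640c79a0962b6f27baaa88c410512b)))) (NTree.node (NTree.node (NTree.node (NTree.node (NTree.leaf 0x312e598e54629c95b5f63d60888820) (NTree.leaf 0x71d526d52859a3698201a5d8f29062)) (NTree.leaf 0xbc554b224f7544c5c01308ccd3a4a4)) (NTree.node (NTree.node (NTree.leaf 0xbcdf5445b47416c4aa46396c310404) (NTree.leaf 0x454923a68a7b420189912aef3b1a0e)) (NTree.leaf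 0x180337244a235903c97443ef1ad8c5))) (NTree.node (NTree.node (NTree.node (NTree.leaf 0xbd9b24522f83aa459d33518ac10c01) (NTree.leaf 0x329e24106c4dc3582cb603a51a34f3)) (NTree.leaf 0xa1597690f573d305aa7692062080d1)) (NTree.node (NTree.leaf 0x742548cd375990ca91f61b4a208147) (NTree.leaf 0x552ce7d5869026b821376c4e520c41))))) (NTree.node (NTree.node (NTree.node (NTree.node (NTree.node (NTree.leaf 0xb2ce568d2289a817926c9220e556e0) (NTree.leaf 0x510650097109dd032137a32d593e6d)) (NTree.leaf 0xba1f495a755400c5b9b1304e929062)) (NTree.node (NTree.node (NTree.leaf 0xb41b55516c2265743a678bcc500c41) (NTree.leaf 0xaa8475966c7d248082e41b6c683931)) (NTree.leaf 0xdded61c0914152a2d0e9c6b631483))) (NTree.node (NTree.node (NTree.node (NTree.leaf 0x44a2e395ec24ef6a9a8a4b60b18820) (NTree.leaf 0x7548080825899124bc6c55e8d3cecb)) (NTree.leaf 0x4ac941dcaa6c1cf9598209811acd07)) (NTree.node (NTree.leaf 0x7c54e6a2ccbd2704d57231c4101483) (NTree.leaf 0x5408f9b4561c90e33237284144acf5)))) (NTree.node (NTree.node (NTree.node (NTree.node (NTree.leaf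 0x95d269daa88356772a2f2168c18820) (NTree.leaf 0x350158aa019dd276890393acb63ca4)) (NTree.leaf 0x5c27445aad4bd9753a472988310411)) (NTree.node (NTree.node (NTree.leaf 0x5b693ad9104ca2429dee51ae31040c) (NTree.leaf 0x2221941b57ac622914e49d94bcec6)) (NTree.leaf 0x741e99dcd68a14d3c96ca948310414))) (NTree.node (NTree.node (NTree.node (NTree.leaf 0x61975bc4ed829f3a25d69206520041) (NTree.leaf 0x65d0da05d67996a3d60094d3129062)) (NTree.leaf 0xb8e1448a4c7ba755a9a52582034507)) (NTree.node (NTree.leaf 0x45e322c28d7b9563a6ac5cc8310406) (NTree.leaf 0xb81c1ad20cb0a468a9287ae6d39483))))))) (NTree.node (NTree.node (NTree.node (NTree.node (NTree.node (NTree.node (NTree.node (NTree.leaf 0xbd6939460f7358b525073148310416) (NTree.leaf 0x44daf21d862c86b85d2a14420752d5)) (NTree.leaf 0x45da90d5517ba963ca0c5880699483)) (NTree.node (NTree.node (NTree.leaf 0x525b44499381ea55bacfb989110403) (NTree.leaf 0x339b685471796f36508b5244104907)) (NTree.leaf 0xa06b79809073dac5a923114d141ed2))) (NTree.node (NTree.node (NTree.node (NTree.leaf 0x8d668b40ab4b9ea91da6652e418820)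 (NTree.leaf 0x311ab2ced40dd821c4f27b808542a9)) (NTree.leaf 0x83c34038495de566b151a9a6839483)) (NTree.node (NTree.node (NTree.leaf 0xba2b49c6504b5c259df6518a103083) (NTree.leaf 0x101c30d96879ca44c6a68494d652f3)) (NTree.leaf 0x6c1229b0f65a9d702032a55f131483)))) (NTree.node (NTree.node (NTree.node (NTree.node (NTree.leaf 0xaa0d09c4654b54f5b9843de9690820) (NTree.leaf 0x72d2db4695298ef6424a9dc8310408)) (NTree.leaf 0xa5637741489d8ab6486f22441019a7)) (NTree.node (NTree.node (NTree.leaf 0xb9690b264eabe2c6a9733a0c020c41) (NTree.leaf 0x892692b2427860eb1814b8d07aad4d)) (NTree.leaf 0x30c8c820abb2a4999e8d708207de35))) (NTree.node (NTree.node (NTree.node (NTree.leaf 0xbdab49ca307b9ac5a928398a418820) (NTree.leaf 0xb81640bcb68386a44d8711aa99468d)) (NTree.leaf 0xa221749c0c73e755a9a6886d229062)) (NTree.node (NTree.leaf 0x82174956764dccc7862d038aa39062) (NTree.leaf 0xbc0469c8160b9ac228a81d12b3d5f1))))) (NTree.node (NTree.node (NTree.node (NTree.node (NTree.node (NTree.leaf 0xdc4d49de559268b0e26aba8a94180) (NTree.leaf 0xb9cad110cb1cc3162928041d4b564f))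 (NTree.leaf 0xa3e77855d1920eb658aa4b48310406)) (NTree.node (NTree.node (NTree.leaf 0xbda958363343a475912f618aa08062) (NTree.leaf 0x746904a82478ec6bcc4d6141241eab)) (NTree.leaf 0xa94ce6aed28b20a424f3a1062081f7))) (NTree.node (NTree.node (NTree.node (NTree.leaf 0x6b16975aa58d0d0220f79aa4f18820) (NTree.leaf 0x70a6f1ad87418a00b6d425d50aa651)) (NTree.leaf 0x9287412c8e635e9b42e101a359a0e5)) (NTree.node (NTree.leaf 0xa9d6ca58cd541d3ba5f192062080a4) (NTree.leaf 0x440049b936a324a15c6d0acf57c4c5)))) (NTree.node (NTree.node (NTree.node (NTree.node (NTree.leaf 0xb4a259dd2f42dc46aab0650c718820) (NTree.leaf 0xbbe33634f21bac42a6955984102150)) (NTree.leaf 0x64a34aa41672a0dbadf3418e520c41)) (NTree.node (NTree.node (NTree.leaf 0x2ca75a39b04a2c0b9df15196c20c41) (NTree.leaf 0x208c51dce07c93183913b06ab53594)) (NTree.leaf 0x940e09a9f6add884b68e5c4c520c41))) (NTree.node (NTree.node (NTree.node (NTree.leaf 0xa5509746127adac9aaf6218a338402) (NTree.leaf 0x99977b20ae7a59453627ac08310412)) (NTree.leaf 0xb99946c4557b9305aa6100d07b48a4))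 (NTree.node (NTree.leaf 0xb3131352b27ba083b5575826520c41) (NTree.leaf 0x549f53ce0c6d8a68a13722c62081d4)))))) (NTree.node (NTree.node (NTree.node (NTree.node (NTree.node (NTree.node (NTree.leaf 0xbba8ab116d7c52899d90286a219a40) (NTree.leaf 0x534f31963023c4c5a1370980ea5ab2)) (NTree.leaf 0xbda0a125b57ba2c5d24838c2034ca4)) (NTree.node (NTree.node (NTree.leaf 0x5b9b24552f9da8ab9e30214cc00c41) (NTree.leaf 0x8258672c4579276a5c6a6c420920f5)) (NTree.leaf 0x89ad24bab4bace864daa814831040f))) (NTree.node (NTree.node (NTree.node (NTree.leaf 0x7520f4cee6b450a69e4b654a418820) (NTree.leaf 0xb8cec2596d039e1152712990a85532)) (NTree.leaf 0xb38540a86fbb1328356089ab341ca4)) (NTree.node (NTree.leaf 0x4a1ed81a545cd8e55ea78d88310405) (NTree.leaf 0x65a839a1704b6f20b84a01eaf898a4)))) (NTree.node (NTree.node (NTree.node (NTree.node (NTree.leaf 0x259923a1f02d6ee34d3450e2d58820) (NTree.leaf 0x332475d1a925e657d630b38620810a)) (NTree.leaf 0xbcdd4446ca83c8c5d45219420334e9)) (NTree.node (NTree.node (NTree.leaf 0xb9a0e2ad2fa564c8a9b63cd0101062)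 (NTree.leaf 0x28ed125101781c934257988f55a9ac)) (NTree.leaf 0x28868a288c34dcd4c2475840fbc6b6))) (NTree.node (NTree.node (NTree.node (NTree.leaf 0x3b52b8199342ad1a3aafbc88510c01) (NTree.leaf 0x721830148ba9850559f30dd328d1a7)) (NTree.leaf 0x7452f6202dbd21352ea0308f691483)) (NTree.node (NTree.leaf 0x35e744c5eeab6cc909700a0a051c83) (NTree.leaf 0x456566bccb9d0f165d2a2c0831040e))))) (NTree.node (NTree.node (NTree.node (NTree.node (NTree.node (NTree.leaf 0x2ca2b82a66636f5111c84bc743d820) (NTree.leaf 0x4148708e0c134068dd2a72e96ac9f3)) (NTree.leaf 0xbca148cd0eaa92c5bc9629c62080cd)) (NTree.node (NTree.node (NTree.leaf 0x65e924b4f632ab08cdcb4148f10403) (NTree.leaf 0x496ee8b403788d09d82ca12483d56a)) (NTree.leaf 0xb10ab3b0ceaa2935360990c4103ef1))) (NTree.node (NTree.node (NTree.node (NTree.leaf 0x6dcc97ae9044aca71e33616a418820) (NTree.leaf 0x306c5131f355c8801d6d1ba154ca34)) (NTree.leaf 0x79e6e858c9a5ead52d914024520c41)) (NTree.node (NTree.leaf 0x6ba347a5669220c982b7558a720c41) (NTree.leaf 0x758259de900214d1c88c12567abe26))))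 (NTree.node (NTree.node (NTree.node (NTree.node (NTree.leaf 0x9aef1a95eda41c44b2d23990a18820) (NTree.leaf 0x7169679e7111963249a965c2042a15)) (NTree.leaf 0x6a4148bc3252ed065dd59990729062)) (NTree.node (NTree.node (NTree.leaf 0x5ba93aa2d07c6412a92d39ae061062) (NTree.leaf 0x1860414eb27a225724f63016a6b297)) (NTree.leaf 0x559619b6b03c90ea30174be2629062))) (NTree.node (NTree.node (NTree.node (NTree.leaf 0x9a28b61e4f6a617ab9468d88328402) (NTree.leaf 0xb415331c897c6976b0b55b86208248)) (NTree.leaf 0x781aea9873a5d8952e02092283da45)) (NTree.node (NTree.leaf 0x62155045347ba575c1b6384d329062) (NTree.leaf 0xbbe722b5713d490329281b04103a96))))))))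

/-- the defining words. -/
def dDw : List (List ℕ) :=
  [[0, 2, 0], [1, 2, 1], [3, 5, 3, 5], [6, 4, 6, 4], [8, 8, 8, 3, 5, 5, 5], [6, 6, 6, 4, 7, 7, 7], [7, 9, 8], [7, 10, 8], [12, 9, 11], [12, 10, 11], [9, 11, 10, 12, 9], [10, 11, 9, 12, 10], [13, 16], [15, 14], [14, 15, 13], [14, 16, 13], [10, 12, 10, 11, 9, 12], [11, 10, 12, 9, 11, 9], [22, 15, 21, 21], [22, 22, 16, 21], [0, 1], [0, 6, 6, 10, 8, 8, 11, 15, 23], [0, 6, 6, 10, 8, 8, 11, 16, 21, 13, 19, 17, 19], [0, 7, 12, 10, 21, 21, 14, 23, 19], [20, 24, 13, 22, 22, 9, 11, 8, 1], [0, 7, 12, 10, 21, 13, 17, 23, 17, 19], [20, 18, 24, 18, 14, 22, 9, 11, 8, 1], [0, 10, 11, 9, 18, 19], [20, 17, 10, 12, 9, 1], [32, 32], [0, 10, 11, 9, 16, 21, 23, 19], [20, 24, 22, 15, 10, 12, 9, 1], [35, 35], [0, 10, 11, 9, 24, 17, 19], [20, 18, 23, 10, 12, 9, 1], [38, 38], [0, 22, 14, 17, 19], [20, 18, 13, 21, 1], [41, 41], [42, 42], [0, 22, 18, 24, 20], [19, 23, 17, 21, 1], [45, 45], [46, 46], [45, 45, 45], [0, 24, 17], [18, 23, 1], [50, 50], [51, 51], [50, 50, 50], [0, 22, 15,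 18, 19], [20, 17, 16, 21, 1], [55, 55], [56, 56], [55, 55, 55], [56, 56, 56], [0, 23, 19, 17, 20], [19, 18, 20, 24, 1], [61, 61], [62, 62], [61, 61, 61], [62, 62, 62], [61, 61, 61, 61], [0, 18, 24], [23, 17, 1], [68, 68], [69, 69], [68, 68, 68], [69, 69, 69], [68, 68, 68, 68], [69, 69, 69, 69], [68, 68, 68, 68, 68], [0, 24, 19], [20, 23, 1], [77, 77], [78, 78], [77, 77, 77], [78, 78, 78], [77, 77, 77, 77], [78, 78, 78, 78], [77, 77, 77, 77, 77], [78, 78, 78, 78, 78], [0, 18, 19], [20, 17, 1], [87, 87], [88, 88], [87, 87, 87], [88, 88, 88], [87, 87, 87, 87], [88, 88, 88, 88], [87, 87, 87, 87, 87], [88, 88, 88, 88, 88], [87, 87, 87, 87, 87, 87], [0, 19], [20, 1], [98, 98], [99, 99], [98, 98, 98], [99, 99, 99], [98, 98, 98, 98], [99, 99, 99, 99], [98, 98, 98, 98, 98], [99, 99, 99, 99, 99], [98, 98, 98, 98, 98, 98], [0, 20], [19, 1], [109, 109], [110, 110], [109, 109, 109], [110, 110, 110], [109, 109, 109, 109], [110, 110, 110, 110], [109, 109, 109, 109, 109], [110, 110, 110, 110, 110], [109, 109, 109, 109, 109,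 109], [110, 110, 110, 110, 110, 110], [109, 109, 109, 109, 109, 109, 109], [0, 24, 20], [19, 23, 1], [122, 122], [123, 123], [122, 122, 122], [123, 123, 123], [122, 122, 122, 122], [123, 123, 123, 123], [122, 122, 122, 122, 122], [123, 123, 123, 123, 123], [122, 122, 122, 122, 122, 122], [123, 123, 123, 123, 123, 123], [122, 122, 122, 122, 122, 122, 122], [123, 123, 123, 123, 123, 123, 123], [0, 19, 17, 20], [19, 18, 20, 1], [136, 136], [137, 137], [136, 136, 136], [137, 137, 137], [136, 136, 136, 136], [137, 137, 137, 137], [136, 136, 136, 136, 136], [137, 137, 137, 137, 137], [136, 136, 136, 136, 136, 136], [137, 137, 137, 137, 137, 137], [136, 136, 136, 136, 136, 136, 136], [137, 137, 137, 137, 137, 137, 137], [136, 136, 136, 136, 136, 136, 136, 136], [137, 137, 137, 137, 137, 137, 137, 137], [136, 136, 136, 136, 136, 136, 136, 136, 136], [137, 137, 137, 137, 137, 137, 137, 137, 137], [136, 136, 136, 136, 136, 136, 136, 136, 136, 136], [137, 137, 137, 137, 137, 137, 137, 137, 137, 137], [0, 19, 23, 19], [20,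 24, 20, 1], [156, 156], [157, 157], [156, 156, 156], [157, 157, 157], [156, 156, 156, 156], [157, 157, 157, 157], [156, 156, 156, 156, 156], [157, 157, 157, 157, 157], [156, 156, 156, 156, 156, 156], [157, 157, 157, 157, 157, 157], [156, 156, 156, 156, 156, 156, 156], [157, 157, 157, 157, 157, 157, 157], [156, 156, 156, 156, 156, 156, 156, 156], [157, 157, 157, 157, 157, 157, 157, 157], [156, 156, 156, 156, 156, 156, 156, 156, 156], [157, 157, 157, 157, 157, 157, 157, 157, 157], [156, 156, 156, 156, 156, 156, 156, 156, 156, 156], [157, 157, 157, 157, 157, 157, 157, 157, 157, 157], [156, 156, 156, 156, 156, 156, 156, 156, 156, 156, 156], [157, 157, 157, 157, 157, 157, 157, 157, 157, 157, 157]]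

/-- the tables. -/
def dD : Dat :=
  { n := 24, bits := 5, msk := 31, K := 178, L := 5, tree := dTree, ivN := 0xb000b100ae00af00ac00ad00aa00ab00a800a900a600a700a400a500a200a300a000a1009e009f009c009d009a009b0098009900960097009400950092009300900091008e008f008c008d008a008b0088008900860087008400850082008300800081007e007f007c007d007a007b007900770078007500760073007400710072006f0070006d006e006c006a006b006800690066006700640065006200630061005f0060005d005e005b005c0059005a00570058005500560053005400510052004f0050004d004e004c004a004b004800490046004700440045004300410042003f0040003d003e003b003c0039003a00370038003600340035003200330031002f0030002d002e002b002c0029002a002800260027002500230024002200200021001e001f001c001d001b001a001900170018001500160013001400110012000f0010000d000e000b000c0009000a000700080005000600030004000200000001, dw := dDw }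

/-- the words of the chain. -/
def dWss : List (List (List ℕ)) :=
  [[[], [0], [0, 0], [0, 0, 0], [4, 0, 0], [1, 4, 0], [4, 0], [0, 4, 0], [0, 0, 4, 0], [2, 1, 4, 0], [1, 2, 0, 0], [2, 0, 0], [2, 1, 1], [1, 3, 1], [3, 1], [0, 3, 1], [1, 1, 3, 0], [1, 3, 0], [3, 0], [4, 1], [1, 1, 1], [1, 1], [1], [2]],
  [[], [4, 4], [6, 3], [3, 3], [3, 5, 3], [4], [5, 3], [6, 4], [4, 5], [5, 3, 3], [6, 6, 6], [5], [4, 4, 5], [5, 4], [5, 3, 5, 4], [5, 4, 4], [3, 5, 4], [3], [6, 4, 5], [4, 5, 3, 3], [5, 5, 3], [6, 6], [6]],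
  [[], [10, 7, 7], [10, 7], [10, 8, 8], [7, 9, 8, 8], [7, 10, 7, 7], [9, 7], [8, 9, 7, 7, 7], [7, 7, 7], [8], [8, 8, 9, 7, 7], [10, 7, 7, 7], [9, 7, 7, 7], [7, 7, 9, 8, 8], [9, 8, 8], [9, 7, 7], [7, 7], [7, 9, 7, 7], [8, 8], [8, 9, 7, 7], [7], [8, 10, 8, 8]],
  [[], [9, 11, 9], [12, 10], [12], [12, 9, 12, 9, 12], [11, 9], [9, 11, 10], [9, 12, 9, 12], [11], [10, 11, 10], [12, 9, 12], [12, 10, 12], [11, 10], [9, 12, 9], [10], [9], [11, 9, 12, 9, 12], [12, 9], [10, 12], [10, 11, 9], [9, 12]],
  [[], [21, 21, 14], [22, 15], [13], [21, 15], [22, 13], [15], [22], [14], [13, 22], [14, 22], [21], [21, 14], [16, 21], [13, 22, 14], [21, 13], [15, 21], [22, 22], [22, 14], [16, 21, 13]],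
  [[], [24], [18, 24], [24, 18], [24, 19, 17], [23, 17], [19, 17], [17, 23, 17], [19, 23], [18], [23, 19, 17], [17, 23], [23, 18], [23], [24, 17], [17]],
  [[], [20], [19]]]

/-- the chain. -/
def dC : ChainD := { bs := [0, 1, 2, 3, 4, 5, 6], wss := dWss }

/-- the type of the elements of order 2 that move 16 points, their squares moving 0 points. -/
def dT0 : TypeD :=
  { ky := 26, o := 2, ks := [25, 26], rel := [(0, 1), (1, 0), (2, 3), (3, 2), (5, 5), (6, 6)], sup := 16, nu := 21504 }

/-- the signs of the conjugators of the powers of the element of the type number 0: `1` when the power is conjugate to the element, `0` when it is conjugate to its inverse. -/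
def dSg0 : List ℕ := [0, 1]

/-- the words of the conjugators of the powers of the element of the type number 0. -/
def dCj0 : List (List ℕ) :=
  [[], []]

/-- the type of the elements of order 2 that move 24 points, their squares moving 0 points. -/
def dT1 : TypeD :=
  { ky := 27, o := 2, ks := [25, 27], rel := [(0, 1), (1, 0), (2, 3), (3, 2), (4, 5), (5, 4)], sup := 24, nu := 7680 }

/-- the signs of the conjugators of the powers of the element of the type number 1: `1` when the power is conjugate to the element, `0` when it is conjugate to its inverse. -/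
def dSg1 : List ℕ := [0, 1]

/-- the words of the conjugators of the powers of the element of the type number 1. -/
def dCj1 : List (List ℕ) :=
  [[], []]

/-- the type of the elements of order 3 that move 18 points, their squares moving 18 points. -/
def dT2 : TypeD :=
  { ky := 28, o := 3, ks := [25, 28, 29], rel := [(0, 1), (1, 2), (2, 0), (3, 4), (5, 5), (6, 6)], sup := 18, nu := 2160 }

/-- the signs of the conjugators of the powers of the element of the type number 2: `1` when the power is conjugate to the element, `0` when it is conjugate to its inverse. -/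
def dSg2 : List ℕ := [0, 1, 1]

/-- the words of the conjugators of the powers of the element of the type number 2. -/
def dCj2 : List (List ℕ) :=
  [[], [], [4, 4, 10, 7, 15, 24]]

/-- the type of the elements of order 3 that move 24 points, their squares moving 24 points. -/
def dT3 : TypeD :=
  { ky := 30, o := 3, ks := [25, 30, 31], rel := [(0, 1), (1, 2), (2, 0), (3, 4), (4, 5), (5, 3)], sup := 24, nu := 1008 }

/-- the signs of the conjugators of the powers of the element of the type number 3: `1` when the power is conjugate to the element, `0` when it is conjugate to its inverse. -/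
def dSg3 : List ℕ := [0, 1, 1]

/-- the words of the conjugators of the powers of the element of the type number 3. -/
def dCj3 : List (List ℕ) :=
  [[], [], [4, 4, 10, 7, 12, 21, 21, 14, 19, 17]]

/-- the type of the elements of order 4 that move 20 points, their squares moving 16 points. -/
def dT4 : TypeD :=
  { ky := 32, o := 4, ks := [25, 32, 34, 33], rel := [(0, 1), (1, 2), (2, 3), (3, 0), (4, 5), (6, 6)], sup := 20, nu := 256 }

/-- the signs of the conjugators of the powers of the element of the type number 4: `1` when the power is conjugate to the element, `0` when it is conjugate to its inverse. -/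
def dSg4 : List ℕ := [0, 1, 0, 1]

/-- the words of the conjugators of the powers of the element of the type number 4. -/
def dCj4 : List (List ℕ) :=
  [[], [], [], [6, 3, 9, 7, 12, 19]]

/-- the type of the elements of order 4 that move 24 points, their squares moving 16 points. -/
def dT5 : TypeD :=
  { ky := 35, o := 4, ks := [25, 35, 37, 36], rel := [(0, 1), (1, 2), (2, 3), (3, 0), (5, 6), (6, 5)], sup := 24, nu := 768 }

/-- the signs of the conjugators of the powers of the element of the type number 5: `1` when the power is conjugate to the element, `0` when it is conjugate to its inverse. -/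
def dSg5 : List ℕ := [0, 1, 0, 1]

/-- the words of the conjugators of the powers of the element of the type number 5. -/
def dCj5 : List (List ℕ) :=
  [[], [], [], [6, 3, 9, 7, 12, 19, 17]]

/-- the type of the elements of order 4 that move 24 points, their squares moving 24 points. -/
def dT6 : TypeD :=
  { ky := 38, o := 4, ks := [25, 38, 40, 39], rel := [(0, 1), (1, 2), (2, 3), (3, 0), (4, 5), (5, 6)], sup := 24, nu := 192 }

/-- the signs of the conjugators of the powers of the element of the type number 6: `1` when the power is conjugate to the element, `0` when it is conjugate to its inverse. -/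
def dSg6 : List ℕ := [0, 1, 0, 1]

/-- the words of the conjugators of the powers of the element of the type number 6. -/
def dCj6 : List (List ℕ) :=
  [[], [], [], [6, 3, 9, 7, 12, 13, 20]]

/-- the type of the elements of order 5 that move 20 points, their squares moving 20 points. -/
def dT7 : TypeD :=
  { ky := 41, o := 5, ks := [25, 41, 43, 44, 42], rel := [(0, 1), (1, 2), (2, 3), (3, 4), (4, 0), (5, 6)], sup := 20, nu := 240 }

/-- the signs of the conjugators of the powers of the element of the type number 7: `1` when the power is conjugate to the element, `0` when it is conjugate to its inverse. -/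
def dSg7 : List ℕ := [0, 1, 1, 1, 1]

/-- the words of the conjugators of the powers of the element of the type number 7. -/
def dCj7 : List (List ℕ) :=
  [[], [], [4, 4, 7, 9, 8, 8, 12, 10, 15, 21, 23, 17], [6, 3, 8, 9, 7, 7, 7, 9, 12, 9, 12, 21, 15, 18, 24], [3, 3, 10, 7, 7, 10, 11, 10, 21, 21, 14]]

/-- the type of the elements of order 6 that move 22 points, their squares moving 18 points. -/
def dT8 : TypeD :=
  { ky := 45, o := 6, ks := [25, 45, 47, 49, 48, 46], rel := [(0, 1), (1, 2), (2, 3), (3, 4), (6, 6)], sup := 22, nu := 48 }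

/-- the signs of the conjugators of the powers of the element of the type number 8: `1` when the power is conjugate to the element, `0` when it is conjugate to its inverse. -/
def dSg8 : List ℕ := [0, 1, 0, 0, 0, 1]

/-- the words of the conjugators of the powers of the element of the type number 8. -/
def dCj8 : List (List ℕ) :=
  [[], [], [], [], [], [5, 9, 7, 7, 7, 12, 9, 12, 9, 12, 21, 14, 24, 18, 20]]

/-- the type of the elements of order 6 that move 24 points, their squares moving 24 points. -/
def dT9 : TypeD :=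
  { ky := 50, o := 6, ks := [25, 50, 52, 54, 53, 51], rel := [(0, 1), (1, 2), (2, 3), (3, 4), (4, 5), (5, 0)], sup := 24, nu := 48 }

/-- the signs of the conjugators of the powers of the element of the type number 9: `1` when the power is conjugate to the element, `0` when it is conjugate to its inverse. -/
def dSg9 : List ℕ := [0, 1, 0, 0, 0, 1]

/-- the words of the conjugators of the powers of the element of the type number 9. -/
def dCj9 : List (List ℕ) :=
  [[], [], [], [], [], [3, 5, 3, 10, 7, 7, 10, 20]]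

/-- the type of the elements of order 7 that move 21 points, their squares moving 21 points. -/
def dT10 : TypeD :=
  { ky := 55, o := 7, ks := [25, 55, 57, 59, 60, 58, 56], rel := [(0, 1), (1, 2), (2, 3), (3, 4), (5, 5)], sup := 21, nu := 126 }

/-- the signs of the conjugators of the powers of the element of the type number 10: `1` when the power is conjugate to the element, `0` when it is conjugate to its inverse. -/
def dSg10 : List ℕ := [0, 1, 1, 0, 1, 0, 0]

/-- the words of the conjugators of the powers of the element of the type number 10. -/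
def dCj10 : List (List ℕ) :=
  [[], [], [4, 4, 7, 9, 8, 8, 10, 11, 10, 24, 18], [3, 3, 12, 9, 22, 14, 24, 19, 17], [3, 3, 12, 9, 22, 14, 24, 19, 17], [4, 4, 7, 9, 8, 8, 10, 11, 10, 24, 18], []]

/-- the type of the elements of order 8 that move 22 points, their squares moving 20 points. -/
def dT11 : TypeD :=
  { ky := 61, o := 8, ks := [25, 61, 63, 65, 67, 66, 64, 62], rel := [(0, 1), (1, 2), (2, 3), (3, 4), (4, 5), (6, 0)], sup := 22, nu := 64 }

/-- the signs of the conjugators of the powers of the element of the type number 11: `1` when the power is conjugate to the element, `0` when it is conjugate to its inverse. -/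
def dSg11 : List ℕ := [0, 1, 0, 1, 0, 1, 0, 1]

/-- the words of the conjugators of the powers of the element of the type number 11. -/
def dCj11 : List (List ℕ) :=
  [[], [], [], [6, 3, 10, 7, 7, 7, 9, 12, 9, 21, 15, 24, 17, 19], [], [3, 5, 3, 7, 9, 12, 21, 14, 17, 23, 20], [], [4, 7, 10, 11, 10, 13, 22, 14, 17, 23, 17]]

/-- the type of the elements of order 10 that move 24 points, their squares moving 20 points. -/
def dT12 : TypeD :=
  { ky := 68, o := 10, ks := [25, 68, 70, 72, 74, 76, 75, 73, 71, 69], rel := [(0, 1), (1, 2), (2, 3), (3, 4), (4, 5), (6, 0)], sup := 24, nu := 80 }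

/-- the signs of the conjugators of the powers of the element of the type number 12: `1` when the power is conjugate to the element, `0` when it is conjugate to its inverse. -/
def dSg12 : List ℕ := [0, 1, 0, 1, 0, 0, 0, 1, 0, 1]

/-- the words of the conjugators of the powers of the element of the type number 12. -/
def dCj12 : List (List ℕ) :=
  [[], [], [], [6, 3, 9, 7, 7, 7, 10, 11, 9, 15, 21, 18, 20], [], [], [], [5, 3, 7, 12, 9, 12, 21, 13, 19, 23, 19], [], [4, 8, 9, 7, 7, 7, 11, 10, 14, 17, 19]]

/-- the type of the elements of order 11 that move 22 points, their squares moving 22 points. -/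
def dT13 : TypeD :=
  { ky := 77, o := 11, ks := [25, 77, 79, 81, 83, 85, 86, 84, 82, 80, 78], rel := [(0, 1), (1, 2), (2, 3), (3, 4), (4, 5), (6, 6)], sup := 22, nu := 110 }

/-- the signs of the conjugators of the powers of the element of the type number 13: `1` when the power is conjugate to the element, `0` when it is conjugate to its inverse. -/
def dSg13 : List ℕ := [0, 1, 1, 1, 1, 1, 1, 1, 1, 1, 1]

/-- the words of the conjugators of the powers of the element of the type number 13. -/
def dCj13 : List (List ℕ) :=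
  [[], [], [2, 1, 4, 0, 5, 5, 3, 7, 7, 7, 9, 12, 22, 24, 17], [6, 3, 10, 8, 8, 9, 12, 9, 12, 22, 14, 24, 19, 17, 19], [3, 3, 9, 7, 7, 12, 9, 21, 20], [3, 5, 3, 21, 15, 23, 17, 20], [2, 1, 4, 0, 4, 4, 5, 9, 7, 7, 7, 11, 13, 22, 14, 18], [2, 1, 4, 0, 5, 3, 5, 4, 10, 7, 7, 10, 14, 22, 18, 19], [2, 1, 4, 0, 3, 9, 7, 7, 7, 10, 12, 15, 21, 19, 17, 20], [5, 5, 3, 7, 9, 8, 8, 12, 10, 16, 21, 13, 17, 20], [2, 1, 4, 0, 5, 4, 10, 7, 7, 7, 11, 13, 20]]

/-- the type of the elements of order 12 that move 24 points, their squares moving 22 points. -/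
def dT14 : TypeD :=
  { ky := 87, o := 12, ks := [25, 87, 89, 91, 93, 95, 97, 96, 94, 92, 90, 88], rel := [(0, 1), (1, 2), (2, 3), (3, 4), (4, 5), (6, 0)], sup := 24, nu := 48 }

/-- the signs of the conjugators of the powers of the element of the type number 14: `1` when the power is conjugate to the element, `0` when it is conjugate to its inverse. -/
def dSg14 : List ℕ := [0, 1, 0, 0, 0, 1, 0, 1, 0, 0, 0, 1]

/-- the words of the conjugators of the powers of the element of the type number 14. -/
def dCj14 : List (List ℕ) :=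
  [[], [], [], [], [], [3, 5, 3, 12, 9, 22, 14, 19, 23, 19], [], [6, 6, 10, 8, 8, 12, 10, 15, 17], [], [], [], [4, 8, 12, 22, 23, 17, 20]]

/-- the type of the elements of order 12 that move 24 points, their squares moving 24 points. -/
def dT15 : TypeD :=
  { ky := 98, o := 12, ks := [25, 98, 100, 102, 104, 106, 108, 107, 105, 103, 101, 99], rel := [(0, 1), (1, 2), (2, 3), (3, 4), (4, 5), (5, 6)], sup := 24, nu := 48 }

/-- the signs of the conjugators of the powers of the element of the type number 15: `1` when the power is conjugate to the element, `0` when it is conjugate to its inverse. -/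
def dSg15 : List ℕ := [0, 1, 0, 0, 0, 1, 0, 1, 0, 0, 0, 1]

/-- the words of the conjugators of the powers of the element of the type number 15. -/
def dCj15 : List (List ℕ) :=
  [[], [], [], [], [], [3, 5, 3, 7, 9, 7, 7, 11, 9, 16, 21, 23, 18], [], [0, 4, 0, 4, 7, 7, 9, 8, 8, 11, 10, 16, 21, 13, 24, 18, 20], [], [], [], [0, 4, 0, 5, 4, 10, 8, 8, 9, 22, 17, 23]]

/-- the type of the elements of order 14 that move 23 points, their squares moving 21 points. -/
def dT16 : TypeD :=
  { ky := 109, o := 14, ks := [25, 109, 111, 113, 115, 117, 119, 121, 120, 118, 116, 114, 112, 110], rel := [(0, 1), (1, 2), (2, 3), (3, 4), (4, 5), (5, 6)], sup := 23, nu := 42 }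

/-- the signs of the conjugators of the powers of the element of the type number 16: `1` when the power is conjugate to the element, `0` when it is conjugate to its inverse. -/
def dSg16 : List ℕ := [0, 1, 0, 0, 0, 0, 0, 0, 0, 1, 0, 1, 0, 0]

/-- the words of the conjugators of the powers of the element of the type number 16. -/
def dCj16 : List (List ℕ) :=
  [[], [], [], [6, 6, 6, 8, 10, 8, 8, 12, 9, 12, 9, 12, 22, 22, 19, 23], [], [5, 5, 3, 11, 9, 21, 15, 19, 17, 20], [], [], [], [5, 5, 3, 11, 9, 21, 15, 19, 17, 20], [], [6, 6, 6, 8, 10, 8, 8, 12, 9, 12, 9, 12, 22, 22, 19, 23], [], []]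

/-- the type of the elements of order 15 that move 23 points, their squares moving 23 points. -/
def dT17 : TypeD :=
  { ky := 122, o := 15, ks := [25, 122, 124, 126, 128, 130, 132, 134, 135, 133, 131, 129, 127, 125, 123], rel := [(0, 1), (1, 2), (2, 3), (3, 4), (4, 5)], sup := 23, nu := 60 }

/-- the signs of the conjugators of the powers of the element of the type number 17: `1` when the power is conjugate to the element, `0` when it is conjugate to its inverse. -/
def dSg17 : List ℕ := [0, 1, 1, 0, 1, 0, 0, 0, 1, 0, 0, 0, 0, 0, 0]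

/-- the words of the conjugators of the powers of the element of the type number 17. -/
def dCj17 : List (List ℕ) :=
  [[], [], [4, 4, 7, 9, 8, 8, 12, 9, 12, 22, 13, 20], [], [3, 3, 9, 7, 7, 9, 11, 9, 14, 17, 19], [], [], [6, 4, 5, 8, 8, 9, 7, 7, 10, 21, 14, 19, 23, 20], [6, 4, 5, 8, 8, 9, 7, 7, 10, 21, 14, 19, 23, 20], [], [], [3, 3, 9, 7, 7, 9, 11, 9, 14, 17, 19], [], [4, 4, 7, 9, 8, 8, 12, 9, 12, 22, 13, 20], []]

/-- the type of the elements of order 21 that move 24 points, their squares moving 24 points. -/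
def dT18 : TypeD :=
  { ky := 136, o := 21, ks := [25, 136, 138, 140, 142, 144, 146, 148, 150, 152, 154, 155, 153, 151, 149, 147, 145, 143, 141, 139, 137], rel := [(0, 1), (1, 2), (2, 3), (3, 4), (4, 5)], sup := 24, nu := 126 }

/-- the signs of the conjugators of the powers of the element of the type number 18: `1` when the power is conjugate to the element, `0` when it is conjugate to its inverse. -/
def dSg18 : List ℕ := [0, 1, 1, 0, 1, 0, 0, 0, 1, 0, 0, 1, 0, 0, 0, 0, 1, 0, 0, 0, 0]

/-- the words of the conjugators of the powers of the element of the type number 18. -/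
def dCj18 : List (List ℕ) :=
  [[], [], [4, 4, 7, 9, 8, 8, 11, 9, 12, 9, 12, 21, 15, 24, 19, 17, 20], [], [3, 3, 9, 7, 7, 7, 12, 9, 22, 14, 17, 23], [4, 5, 9, 8, 8, 9, 11, 9, 22, 14, 19, 17, 19], [], [], [6, 6, 6, 8, 10, 16, 21, 13, 19, 17, 19], [], [5, 3, 8, 10, 8, 8, 9, 11, 10, 16, 21, 17, 20], [5, 3, 8, 10, 8, 8, 9, 11, 10, 16, 21, 17, 20], [], [6, 6, 6, 8, 10, 16, 21, 13, 19, 17, 19], [], [], [4, 5, 9, 8, 8, 9, 11, 9, 22, 14, 19, 17, 19], [3, 3, 9, 7, 7, 7, 12, 9, 22, 14, 17, 23], [], [4, 4, 7, 9, 8, 8, 11, 9, 12, 9, 12, 21, 15, 24, 19, 17, 20], []]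

/-- the type of the elements of order 23 that move 23 points, their squares moving 23 points. -/
def dT19 : TypeD :=
  { ky := 156, o := 23, ks := [25, 156, 158, 160, 162, 164, 166, 168, 170, 172, 174, 176, 177, 175, 173, 171, 169, 167, 165, 163, 161, 159, 157], rel := [(0, 1), (1, 2), (2, 3), (3, 4), (4, 5)], sup := 23, nu := 253 }

/-- the signs of the conjugators of the powers of the element of the type number 19: `1` when the power is conjugate to the element, `0` when it is conjugate to its inverse. -/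
def dSg19 : List ℕ := [0, 1, 1, 1, 1, 0, 1, 0, 1, 1, 0, 0, 1, 1, 0, 0, 1, 0, 1, 0, 0, 0, 0]

/-- the words of the conjugators of the powers of the element of the type number 19. -/
def dCj19 : List (List ℕ) :=
  [[], [], [4, 4, 7, 9, 8, 8, 9, 11, 9, 21, 13, 19, 23, 20], [6, 3, 7, 7, 9, 8, 8, 11, 10, 13, 22, 24, 19], [3, 3, 7, 9, 7, 7, 12, 10, 12, 19, 23, 20], [6, 6, 6, 9, 7, 10, 12, 21, 13, 23, 19, 17, 19], [3, 5, 4, 7, 7, 9, 8, 8, 11, 9, 12, 9, 12, 21, 17, 23, 20], [4, 4, 5, 7, 9, 7, 7, 12, 9, 12, 9, 12, 21, 23, 19, 17, 20], [5, 4, 7, 7, 7, 9, 11, 10, 21, 14, 18, 24, 20], [5, 4, 4, 7, 7, 9, 8, 8, 11, 9, 21, 15, 20], [6, 7, 7, 10, 12, 16, 21, 17, 19], [6, 4, 5, 8, 8, 9, 7, 7, 9, 12, 9, 13, 22, 14, 19, 23, 19], [6, 4, 5, 8, 8, 9, 7, 7, 9, 12, 9, 13, 22, 14, 19, 23, 19], [6, 7, 7, 10, 12, 16, 21, 17, 19], [5, 4, 4, 7, 7, 9, 8, 8, 11, 9, 21, 15, 20], [5, 4, 7, 7, 7, 9, 11, 10, 21, 14, 18, 24, 20], [4, 4, 5, 7, 9, 7, 7, 12, 9, 12, 9, 12, 21, 23, 19, 17, 20], [3, 5, 4, 7, 7, 9, 8, 8, 11, 9, 12, 9, 12, 21, 17, 23,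 20], [6, 6, 6, 9, 7, 10, 12, 21, 13, 23, 19, 17, 19], [3, 3, 7, 9, 7, 7, 12, 10, 12, 19, 23, 20], [6, 3, 7, 7, 9, 8, 8, 11, 10, 13, 22, 24, 19], [4, 4, 7, 9, 8, 8, 9, 11, 9, 21, 13, 19, 23, 20], []]

end Cfsg.Agent.Helper9.M24C

end
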