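import Mathlib
import Cfsg.Agent.Helper9.M24C.Chk
import Cfsg.Agent.Helper9.Golay.M24Trans

set_option autoImplicit false

/-!
The group of the tables on 24 points is the Mathieu group `M₂₄` written on the indices of the
points (`x ↦ x.val`, `∞ ↦ 23`): its order is 244823040.
-/

noncomputable section

namespace Cfsg.Agent.Helper9.M24C

open Cfsg Cfsg.Agent.Helper9.OutG Cfsg.Agent.Helper9.J3 Cfsg.Agent.Helper9.Golay

set_option maxRecDepth 100000 in
theorem ltab_a : ∀ p : GolayPt, T dD 0 (ptIdx p) = ptIdx (stepFun 0 p) := by decide +kernel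

set_option maxRecDepth 100000 in
theorem ltab_b : ∀ p : GolayPt, T dD 2 (ptIdx p) = ptIdx (stepFun 1 p) := by decide +kernel

set_option maxRecDepth 100000 in
theorem ltab_c : ∀ p : GolayPt, T dD 3 (ptIdx p) = ptIdx (stepFun 2 p) := by decide +kernel

theorem ivI_vals : ivI dD 0 = 1 ∧ ivI dD 3 = 4 := by decide +kernel

/-- the indices of the points. -/
def ptE : GolayPt ≃ Fin dD.n := ptEquiv

theorem ptE_val (p : GolayPt) : (ptE p).val = ptIdx p := rfl

/-- the transport of the permutations of the indices to the permutations of the points. -/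
def phi : Equiv.Perm (Fin dD.n) ≃* Equiv.Perm GolayPt := ptE.symm.permCongrHom

theorem phi_apply (σ : Equiv.Perm (Fin dD.n)) (p : GolayPt) :
    phi σ p = ptE.symm (σ (ptE p)) := rfl

theorem phi_letter (k g : ℕ) (hk : ∀ p : GolayPt, T dD k (ptIdx p) = ptIdx (stepFun g p)) :
    phi (El dD core.tab k) = stepPerm g := by
  apply Equiv.ext
  intro p
  rw [phi_apply]
  have e : El dD core.tab k (ptE p) = ptE (stepFun g p) := by
    apply Fin.ext
    rw [El_apply, ptE_val, ptE_val]
    exact hk p
  rw [e, Equiv.symm_apply_apply, stepFun_eq]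

theorem phi_letters (l : Fin dD.L) : phi (El dD core.tab l.val) ∈ M24 := by
  have ha := phi_letter 0 0 ltab_a
  have hb := phi_letter 2 1 ltab_b
  have hc := phi_letter 3 2 ltab_c
  have hai : El dD core.tab 1 = (El dD core.tab 0)⁻¹ := by
    rw [← El_iv dD core.tab 0, ivI_vals.1]
  have hci : El dD core.tab 4 = (El dD core.tab 3)⁻¹ := by
    rw [← El_iv dD core.tab 3, ivI_vals.2]
  obtain ⟨l, hl⟩ := l
  have hl5 : l < 5 := hl
  interval_cases l
  · show phi (El dD core.tab 0) ∈ M24
    rw [ha]
    exact stepPerm_mem 0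
  · show phi (El dD core.tab 1) ∈ M24
    rw [hai, map_inv, ha]
    exact M24.inv_mem (stepPerm_mem 0)
  · show phi (El dD core.tab 2) ∈ M24
    rw [hb]
    exact stepPerm_mem 1
  · show phi (El dD core.tab 3) ∈ M24
    rw [hc]
    exact stepPerm_mem 2
  · show phi (El dD core.tab 4) ∈ M24
    rw [hci, map_inv, hc]
    exact M24.inv_mem (stepPerm_mem 2)

theorem map_le : (GS core).map phi.toMonoidHom ≤ M24 := by
  rw [Subgroup.map_le_iff_le_comap]
  show Subgroup.closure (Set.range fun l : Fin dD.L => El dD core.tab l.val) ≤ _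
  rw [Subgroup.closure_le]
  rintro _ ⟨l, rfl⟩
  exact phi_letters l

/-- the order of the group of the tables. -/
theorem card_GS : Nat.card ↥(GS core) = 244823040 := by
  apply le_antisymm _ (card_ge core)
  have h1 : Nat.card ↥((GS core).map phi.toMonoidHom) = Nat.card ↥(GS core) :=
    Subgroup.card_map_of_injective phi.injective
  have h2 : Nat.card ↥((GS core).map phi.toMonoidHom) ≤ Nat.card ↥M24 :=
    Subgroup.card_le_of_le map_le
  rw [h1, card_M24] at h2
  exact h2

/-- the group of the tables is isomorphic to the Mathieu group `M₂₄`. -/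
theorem map_eq : (GS core).map phi.toMonoidHom = M24 := by
  apply Subgroup.eq_of_le_of_card_ge map_le
  rw [Subgroup.card_map_of_injective phi.injective, card_GS, card_M24]

/-- the isomorphism with the Mathieu group `M₂₄`. -/
def equivM24 : ↥(GS core) ≃* ↥M24 :=
  ((GS core).equivMapOfInjective phi.toMonoidHom phi.injective).trans
    (MulEquiv.subgroupCongr map_eq)

end Cfsg.Agent.Helper9.M24C

end
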