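import Mathlib
import Cfsg.Agent.Helper9.M24C.Data
import Cfsg.Agent.Helper9.OutG.Spec2

set_option autoImplicit false

/-! Kernel checks of the certificates, a part. -/

noncomputable section

namespace Cfsg.Agent.Helper9.M24C

open Cfsg.Agent.Helper9.OutG Cfsg.Agent.Helper9.J3

set_option maxRecDepth 1000000 in
set_option maxHeartbeats 0 in
theorem t6_hpw : allB (fun j => allB (fun x => Nat.beq (T dD (nthN dT6.ks j) x) (powF (T dD dT6.ky) j x)) dD.n) dT6.o = true := by decide +kernel

set_option maxRecDepth 1000000 in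
set_option maxHeartbeats 0 in
theorem t6_hone : allB (fun x => Nat.beq (powF (T dD dT6.ky) dT6.o x) x) dD.n = true := by decide +kernel

set_option maxRecDepth 1000000 in
set_option maxHeartbeats 0 in
theorem t6_hne : allB (fun m => orB (Nat.beq m 0) (notB (allB (fun x => Nat.beq (powF (T dD dT6.ky) m x) x) dD.n))) dT6.o = true := by decide +kernel

set_option maxRecDepth 1000000 in
set_option maxHeartbeats 0 in
theorem t6_hrel : relChk (T dD dT6.ky) dC.bs dT6.rel = true := by decide +kernel

set_option maxRecDepth 1000000 in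
set_option maxHeartbeats 0 in
theorem t6_hcnt : Nat.ble (sumF (fun j => ifz (Nat.sub (Nat.gcd j dT6.o) 1) (cntF dD (T dD dT6.ky) (T dD (nthN dT6.ks j)) dC.bs dT6.rel dC.bs dC.wss (fun x => x) 0 []) 0) dT6.o) dT6.nu = true := by decide +kernel

set_option maxRecDepth 1000000 in
set_option maxHeartbeats 0 in
theorem t6_hsup : Nat.beq (supCnt dD dT6.ky) dT6.sup = true := by decide +kernel

theorem typeOK6 : TypeOK dD dC dT6 :=
  { hpos := by decide, hpw := t6_hpw, hone := t6_hone, hne := t6_hne, hrel := t6_hrel, hcnt := t6_hcnt, hsup := t6_hsup }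

set_option maxRecDepth 1000000 in
set_option maxHeartbeats 0 in
theorem t6_s2 : Nat.beq (supCnt dD (nthN dT6.ks 2)) 24 = true := by decide +kernel

set_option maxRecDepth 1000000 in
set_option maxHeartbeats 0 in
theorem t6_cj : cjChk dD dT6 dSg6 dCj6 = true := by decide +kernel

end Cfsg.Agent.Helper9.M24C

end
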