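import Mathlib
import Cfsg.Agent.Helper9.M24C.Card
import Cfsg.Agent.Helper9.M24C.ChkT0
import Cfsg.Agent.Helper9.M24C.ChkT1
import Cfsg.Agent.Helper9.M24C.ChkT2
import Cfsg.Agent.Helper9.M24C.ChkT3
import Cfsg.Agent.Helper9.M24C.ChkT4
import Cfsg.Agent.Helper9.M24C.ChkT5
import Cfsg.Agent.Helper9.M24C.ChkT6
import Cfsg.Agent.Helper9.M24C.ChkT7
import Cfsg.Agent.Helper9.M24C.ChkT8
import Cfsg.Agent.Helper9.M24C.ChkT9
import Cfsg.Agent.Helper9.M24C.ChkT10
import Cfsg.Agent.Helper9.M24C.ChkT11
import Cfsg.Agent.Helper9.M24C.ChkT12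
import Cfsg.Agent.Helper9.M24C.ChkT13
import Cfsg.Agent.Helper9.M24C.ChkT14
import Cfsg.Agent.Helper9.M24C.ChkT15
import Cfsg.Agent.Helper9.M24C.ChkT16
import Cfsg.Agent.Helper9.M24C.ChkT17
import Cfsg.Agent.Helper9.M24C.ChkT18
import Cfsg.Agent.Helper9.M24C.ChkT19
import Cfsg.Agent.Helper9.OutG.Spec2

set_option autoImplicit false

/-!
The classes of cyclic subgroups of the Mathieu group `M₂₄` (as the group of the tables on 24
points): 21 representatives `rep i` (`rep 0 = 1`), distinguished by the order, the number of the
points moved and the number of the points moved by the square; every element is conjugate to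
`rep i` or to its inverse for the `i` with the same invariant.
-/

noncomputable section

namespace Cfsg.Agent.Helper9.M24C

open Cfsg Cfsg.Agent.Helper9.OutG Cfsg.Agent.Helper9.J3 Cfsg.Agent.Helper9.ClassCount

theorem hbs : ∀ b ∈ dC.bs, b < dD.n := by decide

instance finite_GS : Finite ↥(GS core) := inferInstance

/-- the tables of the representatives. -/
def kys : List ℕ := [25, 26, 27, 28, 30, 32, 35, 38, 41, 45, 50, 55, 61, 68, 77, 87, 98, 109, 122, 136, 156]

/-- the representatives of the classes of cyclic subgroups. -/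
def rep (i : ℕ) : ↥(GS core) := gE core (nthN kys i)

/-- the invariants of the representatives. -/
def vals : List (ℕ × ℕ × ℕ) := [(1, 0, 0), (2, 16, 0), (2, 24, 0), (3, 18, 18), (3, 24, 24), (4, 20, 16), (4, 24, 16), (4, 24, 24), (5, 20, 20), (6, 22, 18), (6, 24, 24), (7, 21, 21), (8, 22, 20), (10, 24, 20), (11, 22, 22), (12, 24, 22), (12, 24, 24), (14, 23, 21), (15, 23, 23), (21, 24, 24), (23, 23, 23)]

/-- the invariant of the representative number `i`. -/
def val (i : ℕ) : ℕ × ℕ × ℕ := vals.getD i (0, 0, 0)

/-- the numbers of the conjugates of the generators of the cyclic subgroups. -/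
def mls : List ℕ := [1, 11385, 31878, 226688, 485760, 1912680, 637560, 2550240, 4080384, 10200960, 10200960, 11658240, 15301440, 12241152, 22256640, 20401920, 20401920, 34974720, 32643072, 23316480, 21288960]

/-- the number of the conjugates of the generators of the cyclic subgroup number `i`. -/
def mval (i : ℕ) : ℕ := mls.getD i 0

theorem val_inj : ∀ i, i < 21 → ∀ j, j < 21 → val i = val j → i = j := by decide

theorem mval_sum : ∑ i ∈ Finset.range 21, mval i = 244823040 := by decide

set_option maxRecDepth 100000 in
theorem id_chk : allB (fun x => Nat.beq (T dD 25 x) x) dD.n = true := by decide +kernel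

theorem rep_zero : rep 0 = 1 := by
  apply Subtype.ext
  exact Comp.eq_of_all (comp_gE core 25) Comp.one id_chk

theorem rep_1 : rep 1 = gE core dT0.ky := rfl

theorem rep_2 : rep 2 = gE core dT1.ky := rfl

theorem rep_3 : rep 3 = gE core dT2.ky := rfl

theorem rep_4 : rep 4 = gE core dT3.ky := rfl

theorem rep_5 : rep 5 = gE core dT4.ky := rfl

theorem rep_6 : rep 6 = gE core dT5.ky := rfl

theorem rep_7 : rep 7 = gE core dT6.ky := rfl

theorem rep_8 : rep 8 = gE core dT7.ky := rfl

theorem rep_9 : rep 9 = gE core dT8.ky := rfl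

theorem rep_10 : rep 10 = gE core dT9.ky := rfl

theorem rep_11 : rep 11 = gE core dT10.ky := rfl

theorem rep_12 : rep 12 = gE core dT11.ky := rfl

theorem rep_13 : rep 13 = gE core dT12.ky := rfl

theorem rep_14 : rep 14 = gE core dT13.ky := rfl

theorem rep_15 : rep 15 = gE core dT14.ky := rfl

theorem rep_16 : rep 16 = gE core dT15.ky := rfl

theorem rep_17 : rep 17 = gE core dT16.ky := rfl

theorem rep_18 : rep 18 = gE core dT17.ky := rfl

theorem rep_19 : rep 19 = gE core dT18.ky := rfl

theorem rep_20 : rep 20 = gE core dT19.ky := rfl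

theorem cInv3_rep : ∀ i, i < 21 → cInv3 core (rep i) = val i := by
  intro i hi
  interval_cases i
  · rw [rep_zero]
    exact cInv3_one core
  · exact type_cInv3_two core typeOK0 rfl
  · exact type_cInv3_two core typeOK1 rfl
  · exact type_cInv3 core typeOK2 18 (by decide) t2_s2
  · exact type_cInv3 core typeOK3 24 (by decide) t3_s2
  · exact type_cInv3 core typeOK4 16 (by decide) t4_s2
  · exact type_cInv3 core typeOK5 16 (by decide) t5_s2
  · exact type_cInv3 core typeOK6 24 (by decide) t6_s2
  · exact type_cInv3 core typeOK7 20 (by decide) t7_s2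
  · exact type_cInv3 core typeOK8 18 (by decide) t8_s2
  · exact type_cInv3 core typeOK9 24 (by decide) t9_s2
  · exact type_cInv3 core typeOK10 21 (by decide) t10_s2
  · exact type_cInv3 core typeOK11 20 (by decide) t11_s2
  · exact type_cInv3 core typeOK12 20 (by decide) t12_s2
  · exact type_cInv3 core typeOK13 22 (by decide) t13_s2
  · exact type_cInv3 core typeOK14 22 (by decide) t14_s2
  · exact type_cInv3 core typeOK15 24 (by decide) t15_s2
  · exact type_cInv3 core typeOK16 21 (by decide) t16_s2
  · exact type_cInv3 core typeOK17 23 (by decide) t17_s2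
  · exact type_cInv3 core typeOK18 24 (by decide) t18_s2
  · exact type_cInv3 core typeOK19 23 (by decide) t19_s2

theorem order_rep : ∀ i, i < 21 → orderOf (rep i) = (val i).1 := by
  intro i hi
  have h := cInv3_rep i hi
  unfold cInv3 at h
  rw [← h]

theorem bound_zero : mval 0 ≤ (conjGens (rep 0)).ncard := by
  rw [rep_zero, conjGens_one, Set.ncard_singleton]
  decide

theorem bound_1 : mval 1 ≤ (conjGens (rep 1)).ncard :=
  type_bound_conjGens core typeOK0 card_GS hbs (by decide) 1 11385 (by decide) (by decide) (by decide)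

theorem bound_2 : mval 2 ≤ (conjGens (rep 2)).ncard :=
  type_bound_conjGens core typeOK1 card_GS hbs (by decide) 1 31878 (by decide) (by decide) (by decide)

theorem bound_3 : mval 3 ≤ (conjGens (rep 3)).ncard :=
  type_bound_conjGens core typeOK2 card_GS hbs (by decide) 2 226688 (by decide) (by decide) (by decide)

theorem bound_4 : mval 4 ≤ (conjGens (rep 4)).ncard :=
  type_bound_conjGens core typeOK3 card_GS hbs (by decide) 2 485760 (by decide) (by decide) (by decide)

theorem bound_5 : mval 5 ≤ (conjGens (rep 5)).ncard :=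
  type_bound_conjGens core typeOK4 card_GS hbs (by decide) 2 1912680 (by decide) (by decide) (by decide)

theorem bound_6 : mval 6 ≤ (conjGens (rep 6)).ncard :=
  type_bound_conjGens core typeOK5 card_GS hbs (by decide) 2 637560 (by decide) (by decide) (by decide)

theorem bound_7 : mval 7 ≤ (conjGens (rep 7)).ncard :=
  type_bound_conjGens core typeOK6 card_GS hbs (by decide) 2 2550240 (by decide) (by decide) (by decide)

theorem bound_8 : mval 8 ≤ (conjGens (rep 8)).ncard :=
  type_bound_conjGens core typeOK7 card_GS hbs (by decide) 4 4080384 (by decide) (by decide) (by decide)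

theorem bound_9 : mval 9 ≤ (conjGens (rep 9)).ncard :=
  type_bound_conjGens core typeOK8 card_GS hbs (by decide) 2 10200960 (by decide) (by decide) (by decide)

theorem bound_10 : mval 10 ≤ (conjGens (rep 10)).ncard :=
  type_bound_conjGens core typeOK9 card_GS hbs (by decide) 2 10200960 (by decide) (by decide) (by decide)

theorem bound_11 : mval 11 ≤ (conjGens (rep 11)).ncard :=
  type_bound_conjGens core typeOK10 card_GS hbs (by decide) 6 11658240 (by decide) (by decide) (by decide)

theorem bound_12 : mval 12 ≤ (conjGens (rep 12)).ncard :=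
  type_bound_conjGens core typeOK11 card_GS hbs (by decide) 4 15301440 (by decide) (by decide) (by decide)

theorem bound_13 : mval 13 ≤ (conjGens (rep 13)).ncard :=
  type_bound_conjGens core typeOK12 card_GS hbs (by decide) 4 12241152 (by decide) (by decide) (by decide)

theorem bound_14 : mval 14 ≤ (conjGens (rep 14)).ncard :=
  type_bound_conjGens core typeOK13 card_GS hbs (by decide) 10 22256640 (by decide) (by decide) (by decide)

theorem bound_15 : mval 15 ≤ (conjGens (rep 15)).ncard :=
  type_bound_conjGens core typeOK14 card_GS hbs (by decide) 4 20401920 (by decide) (by decide) (by decide)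

theorem bound_16 : mval 16 ≤ (conjGens (rep 16)).ncard :=
  type_bound_conjGens core typeOK15 card_GS hbs (by decide) 4 20401920 (by decide) (by decide) (by decide)

theorem bound_17 : mval 17 ≤ (conjGens (rep 17)).ncard :=
  type_bound_conjGens core typeOK16 card_GS hbs (by decide) 6 34974720 (by decide) (by decide) (by decide)

theorem bound_18 : mval 18 ≤ (conjGens (rep 18)).ncard :=
  type_bound_conjGens core typeOK17 card_GS hbs (by decide) 8 32643072 (by decide) (by decide) (by decide)

theorem bound_19 : mval 19 ≤ (conjGens (rep 19)).ncard :=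
  type_bound_conjGens core typeOK18 card_GS hbs (by decide) 12 23316480 (by decide) (by decide) (by decide)

theorem bound_20 : mval 20 ≤ (conjGens (rep 20)).ncard :=
  type_bound_conjGens core typeOK19 card_GS hbs (by decide) 22 21288960 (by decide) (by decide) (by decide)

theorem bound_all : ∀ i ∈ Finset.range 21, mval i ≤ (conjGens (rep i)).ncard := by
  intro i hi
  rw [Finset.mem_range] at hi
  interval_cases i
  · exact bound_zero
  · exact bound_1
  · exact bound_2
  · exact bound_3
  · exact bound_4
  · exact bound_5
  · exact bound_6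
  · exact bound_7
  · exact bound_8
  · exact bound_9
  · exact bound_10
  · exact bound_11
  · exact bound_12
  · exact bound_13
  · exact bound_14
  · exact bound_15
  · exact bound_16
  · exact bound_17
  · exact bound_18
  · exact bound_19
  · exact bound_20

theorem cInv3_of_mem {i : ℕ} (hi : i < 21) {g : ↥(GS core)} (hg : g ∈ conjGens (rep i)) :
    cInv3 core g = val i := by
  rw [← cInv3_rep i hi]
  exact eq_of_mem_conjGens (cInv3 core) (cInv3_conj core) (fun k hk => cInv3_pow core (rep i) k hk) hg

theorem disj_all : ∀ i ∈ Finset.range 21, ∀ j ∈ Finset.range 21, i ≠ j →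
    Disjoint (conjGens (rep i)) (conjGens (rep j)) := by
  intro i hi j hj hij
  rw [Finset.mem_range] at hi hj
  rw [Set.disjoint_left]
  intro g hgi hgj
  apply hij
  apply val_inj i hi j hj
  rw [← cInv3_of_mem hi hgi, ← cInv3_of_mem hj hgj]

/-- every element is a conjugate of a generator of one of the 21 cyclic subgroups. -/
theorem cover_conjGens (g : ↥(GS core)) : ∃ i, i < 21 ∧ g ∈ conjGens (rep i) := by
  obtain ⟨i, hi, hg⟩ := cover_of_sum_eq (Finset.range 21) rep mval bound_all disj_all
    (by rw [mval_sum, card_GS]) g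
  exact ⟨i, Finset.mem_range.mp hi, hg⟩

/-- the powers of a representative with exponents prime to its order are conjugate to it or to
its inverse. -/
theorem conj_pow_rep : ∀ i, i < 21 → ∀ k : ℕ, Nat.Coprime k (orderOf (rep i)) →
    IsConj (rep i) (rep i ^ k) ∨ IsConj (rep i)⁻¹ (rep i ^ k) := by
  intro i hi k hk
  rw [order_rep i hi] at hk
  interval_cases i
  · left
    rw [rep_zero, one_pow]
  · exact type_conj_pow core typeOK0 t0_cj k hk
  · exact type_conj_pow core typeOK1 t1_cj k hk
  · exact type_conj_pow core typeOK2 t2_cj k hk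
  · exact type_conj_pow core typeOK3 t3_cj k hk
  · exact type_conj_pow core typeOK4 t4_cj k hk
  · exact type_conj_pow core typeOK5 t5_cj k hk
  · exact type_conj_pow core typeOK6 t6_cj k hk
  · exact type_conj_pow core typeOK7 t7_cj k hk
  · exact type_conj_pow core typeOK8 t8_cj k hk
  · exact type_conj_pow core typeOK9 t9_cj k hk
  · exact type_conj_pow core typeOK10 t10_cj k hk
  · exact type_conj_pow core typeOK11 t11_cj k hk
  · exact type_conj_pow core typeOK12 t12_cj k hk
  · exact type_conj_pow core typeOK13 t13_cj k hk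
  · exact type_conj_pow core typeOK14 t14_cj k hk
  · exact type_conj_pow core typeOK15 t15_cj k hk
  · exact type_conj_pow core typeOK16 t16_cj k hk
  · exact type_conj_pow core typeOK17 t17_cj k hk
  · exact type_conj_pow core typeOK18 t18_cj k hk
  · exact type_conj_pow core typeOK19 t19_cj k hk

/-- every element is conjugate to a representative or to its inverse. -/
theorem exists_conj (g : ↥(GS core)) :
    ∃ i, i < 21 ∧ cInv3 core g = val i ∧ (IsConj (rep i) g ∨ IsConj (rep i)⁻¹ g) := by
  obtain ⟨i, hi, hg⟩ := cover_conjGens g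
  refine ⟨i, hi, cInv3_of_mem hi hg, ?_⟩
  obtain ⟨x, k, hk, rfl⟩ := hg
  have hc : IsConj (rep i ^ k) (x * rep i ^ k * x⁻¹) := isConj_iff.mpr ⟨x, rfl⟩
  rcases conj_pow_rep i hi k hk with h | h
  · exact Or.inl (h.trans hc)
  · exact Or.inr (h.trans hc)

/-! ### the type of an element -/

theorem exists_val (g : ↥(GS core)) : ∃ i : Fin 21, cInv3 core g = val i.val := by
  obtain ⟨i, hi, h, -⟩ := exists_conj g
  exact ⟨⟨i, hi⟩, h⟩

/-- the type of an element: the number of the representative with the same invariant. -/
def ty (g : ↥(GS core)) : Fin 21 := Classical.choose (exists_val g)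

theorem ty_spec (g : ↥(GS core)) : cInv3 core g = val (ty g).val := Classical.choose_spec (exists_val g)

theorem ty_eq_iff (g : ↥(GS core)) (i : Fin 21) : ty g = i ↔ cInv3 core g = val i.val := by
  constructor
  · intro h
    rw [← h]
    exact ty_spec g
  · intro h
    apply Fin.ext
    apply val_inj _ (ty g).isLt _ i.isLt
    rw [← ty_spec g, h]

theorem ty_conj (x g : ↥(GS core)) : ty (x * g * x⁻¹) = ty g := by
  rw [ty_eq_iff, cInv3_conj]
  exact ty_spec g

theorem ty_inv (g : ↥(GS core)) : ty g⁻¹ = ty g := by
  rw [ty_eq_iff, cInv3_inv]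
  exact ty_spec g

theorem ty_rep (i : Fin 21) : ty (rep i.val) = i := by
  rw [ty_eq_iff]
  exact cInv3_rep i.val i.isLt

/-- **every element is conjugate to the representative of its type or to its inverse.** -/
theorem cover (x : ↥(GS core)) : IsConj (rep (ty x).val) x ∨ IsConj (rep (ty x).val)⁻¹ x := by
  obtain ⟨i, hi, h, hc⟩ := exists_conj x
  have e : ty x = ⟨i, hi⟩ := (ty_eq_iff x ⟨i, hi⟩).mpr h
  rw [e]
  exact hc

theorem eq_one_of_ty (x : ↥(GS core)) (h : ty x = 0) : x = 1 := by
  have h1 := ty_spec x
  rw [h] at h1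
  have h2 : orderOf x = 1 := congrArg Prod.fst h1
  exact orderOf_eq_one_iff.mp h2

end Cfsg.Agent.Helper9.M24C

end
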