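import Mathlib
import Cfsg.Agent.Helper9.M24C.Final

set_option autoImplicit false

/-!
The exact numbers of the elements of the 21 types of the Mathieu group `M₂₄` (as the group of the
tables on 24 points).
-/

noncomputable section

namespace Cfsg.Agent.Helper9.M24C

open Cfsg Cfsg.Agent.Helper9.OutG Cfsg.Agent.Helper9.J3 Cfsg.Agent.Helper9.ClassCount

theorem conjGens_subset_ty (i : Fin 21) : conjGens (rep i.val) ⊆ {g : ↥(GS core) | ty g = i} := by
  intro g hg
  exact (ty_eq_iff g i).mpr (cInv3_of_mem i.isLt hg)

theorem mval_le_ty (i : Fin 21) : mval i.val ≤ {g : ↥(GS core) | ty g = i}.ncard :=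
  le_trans (bound_all i.val (Finset.mem_range.mpr i.isLt))
    (Set.ncard_le_ncard (conjGens_subset_ty i) (Set.toFinite _))

/-- **the number of the elements of each type.** -/
theorem ncard_ty (i : Fin 21) : {g : ↥(GS core) | ty g = i}.ncard = mval i.val := by
  classical
  have : Fintype ↥(GS core) := Fintype.ofFinite _
  have hfib : (Finset.univ : Finset ↥(GS core)).card =
      ∑ j : Fin 21, ((Finset.univ : Finset ↥(GS core)).filter (fun g => ty g = j)).card :=
    Finset.card_eq_sum_card_fiberwise (fun g _ => Finset.mem_univ (ty g))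
  have hcard : ∀ j : Fin 21, ((Finset.univ : Finset ↥(GS core)).filter (fun g => ty g = j)).card =
      {g : ↥(GS core) | ty g = j}.ncard := by
    intro j
    rw [← Set.ncard_coe_finset]
    congr 1
    ext g
    simp
  have hle : ∀ j ∈ (Finset.univ : Finset (Fin 21)), mval j.val ≤
      ((Finset.univ : Finset ↥(GS core)).filter (fun g => ty g = j)).card := by
    intro j _
    rw [hcard]
    exact mval_le_ty j
  have hsum : ∑ j : Fin 21, mval j.val =
      ∑ j : Fin 21, ((Finset.univ : Finset ↥(GS core)).filter (fun g => ty g = j)).card := by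
    rw [← hfib, Finset.card_univ, ← Nat.card_eq_fintype_card, card_GS,
      Fin.sum_univ_eq_sum_range mval 21]
    exact mval_sum
  have h := (Finset.sum_eq_sum_iff_of_le hle).mp hsum i (Finset.mem_univ i)
  rw [← hcard, ← h]

/-- the conjugates of the generators of the cyclic subgroup of a representative are the elements of
its type. -/
theorem conjGens_eq_ty (i : Fin 21) : conjGens (rep i.val) = {g : ↥(GS core) | ty g = i} := by
  ext g
  constructor
  · intro hg
    exact conjGens_subset_ty i hg
  · intro hg
    obtain ⟨j, hj, hgj⟩ := cover_conjGens g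
    have e : ty g = ⟨j, hj⟩ := (ty_eq_iff g ⟨j, hj⟩).mpr (cInv3_of_mem hj hgj)
    have hg' : ty g = i := hg
    rw [hg'] at e
    rw [e]
    exact hgj

end Cfsg.Agent.Helper9.M24C

end
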